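import Groth.Agent.H18Et.Coh.Colimit
import Groth.Agent.H18Et.Cons.SectColim

/-!
# Étale cohomology commutes with localisation of abelian sheaves at a set of integers
-/

set_option autoImplicit false
set_option linter.style.haveILetI false
set_option linter.unusedSectionVars false
set_option backward.isDefEq.respectTransparency false
set_option backward.isDefEq.respectTransparency.types false

universe u

open CategoryTheory CategoryTheory.Limits AlgebraicGeometry Opposite

namespace Groth.Agent.H15Site.HLoc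

open Groth.Agent.H18Et
open scoped Groth.Agent.H18Et Groth.Agent.H18Et.CohColim

variable {X : Scheme.{u}}

/-- Every point of an étale scheme has an affine étale neighbourhood. -/
theorem exists_affine_nhd (U : X.Etale) (x : U.left) :
    ∃ (P : X.Etale) (_ : IsAffine P.left) (i : P ⟶ U) (v : P.left), i.left.base v = x := by
  obtain ⟨B, hB, hxB, -⟩ := exists_isAffineOpen_mem_and_subset (X := U.left) (x := x) (U := ⊤) trivial
  haveI : Etale U.hom := U.prop
  exact ⟨MorphismProperty.Over.mk ⊤ (B.ι ≫ U.hom) (inferInstanceAs (Etale _)), hB,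
    MorphismProperty.Over.homMk B.ι rfl trivial, ⟨x, hxB⟩, rfl⟩

/-- A morphism bijective on affine sections is an isomorphism. -/
theorem isIso_of_bijective_affine {F G : EtCoh.Ab X} (φ : F ⟶ G)
    (h : ∀ U : X.Etale, IsAffine U.left → Function.Bijective (φ.hom.app (op U))) : IsIso φ := by
  have h1 : Sheaf.IsLocallyInjective φ := ⟨fun {U} a b hab => by
    refine mem_topology_of_forall_point _ fun x => ?_
    obtain ⟨P, hP, i, v, hv⟩ := exists_affine_nhd U.unop x
    exact ⟨P, i, v, (h P hP).1 ((NatTrans.naturality_apply φ.hom i.op a).trans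
      ((congrArg _ hab).trans (NatTrans.naturality_apply φ.hom i.op b).symm)), hv⟩⟩
  have h2 : Sheaf.IsLocallySurjective φ := ⟨fun {U} s => by
    refine mem_topology_of_forall_point _ fun x => ?_
    obtain ⟨P, hP, i, v, hv⟩ := exists_affine_nhd U x
    exact ⟨P, i, v, (h P hP).2 _, hv⟩⟩
  exact (Sheaf.isLocallyBijective_iff_isIso φ).1 ⟨h1, h2⟩

variable (S : Submonoid ℤ)

/-- The filtered category of denominators. -/
structure Den : Type u where
  /-- the denominator -/
  val : S

instance : Category.{u} (Den.{u} S) where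
  Hom s t := ULift.{u} {v : S // s.val * v = t.val}
  id s := ⟨1, mul_one _⟩
  comp {s t r} a b := ⟨a.down.1 * b.down.1, by rw [← mul_assoc, a.down.2, b.down.2]⟩
  id_comp a := ULift.ext _ _ (Subtype.ext (one_mul _))
  comp_id a := ULift.ext _ _ (Subtype.ext (mul_one _))
  assoc a b c := ULift.ext _ _ (Subtype.ext (mul_assoc _ _ _))

instance : Nonempty (Den.{u} S) := ⟨⟨1⟩⟩

instance : IsFiltered (Den.{u} S) where
  toIsFilteredOrEmpty :=
    { cocone_objs := fun s t => ⟨⟨s.val * t.val⟩, ⟨⟨t.val, rfl⟩⟩, ⟨⟨s.val, mul_comm _ _⟩⟩, trivial⟩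
      cocone_maps := fun {s t} a b => ⟨⟨t.val * s.val⟩, ⟨⟨s.val, rfl⟩⟩, ULift.ext _ _ (Subtype.ext (by
        show a.down.1 * s.val = b.down.1 * s.val
        rw [mul_comm, a.down.2, mul_comm b.down.1, b.down.2]))⟩ }

/-- The multiplication diagram. -/
noncomputable def diag (F : EtCoh.Ab X) : Den.{u} S ⥤ EtCoh.Ab X where
  obj _ := F
  map a := (a.down.1 : ℤ) • 𝟙 F
  map_id s := by
    show ((1 : S) : ℤ) • 𝟙 F = 𝟙 F
    simp
  map_comp {s t r} a b := by
    show ((a.down.1 * b.down.1 : S) : ℤ) • 𝟙 F = _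
    rw [Preadditive.zsmul_comp, Category.id_comp, smul_smul]
    rfl

theorem zsmul_app {F G : EtCoh.Ab X} (n : ℤ) (φ : F ⟶ G) (U : X.Etaleᵒᵖ) (s : F.obj.obj U) :
    (n • φ).hom.app U s = n • φ.hom.app U s := rfl

variable [CompactSpace X] [QuasiSeparatedSpace X]

theorem map_zsmul_H {F G : EtCoh.Ab X} (n : ℤ) (φ : F ⟶ G) {i : ℕ} (x : EtCoh.H X F i) :
    Sheaf.H.map (n • φ) i x = n • Sheaf.H.map φ i x := by
  let g : (F ⟶ G) →+ EtCoh.H X G i := AddMonoidHom.mk' (fun ψ => Sheaf.H.map ψ i x) fun a b => by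
    show Sheaf.H.map (a + b) i x = Sheaf.H.map a i x + Sheaf.H.map b i x
    rw [Sheaf.H.map_apply, Sheaf.H.map_apply, Sheaf.H.map_apply, Abelian.Ext.mk₀_add, Abelian.Ext.comp_add]
  exact map_zsmul g n φ

/-- Localisation of sheaves at a multiplicative set of integers commutes with cohomology. -/
theorem main (F G : EtCoh.Ab X) (φ : F ⟶ G)
    (hφ : ∀ U : X.Etale, IsAffine U.left →
      IsLocalizedModule S (φ.hom.app (op U)).hom.toIntLinearMap)
    (i : ℕ) : IsLocalizedModule S ((EtCoh.HF X i).map φ).hom.toIntLinearMap := by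
  haveI hS : ∀ s : S, IsIso ((s : ℤ) • 𝟙 G) := fun s =>
    isIso_of_bijective_affine _ fun U hU =>
      (Module.End.isUnit_iff _).1 ((hφ U hU).map_units s)
  have hsmul : ∀ s : S, (s : ℤ) • (φ ≫ inv ((s : ℤ) • 𝟙 G)) = φ := fun s => by
    rw [← Preadditive.comp_zsmul, show (s : ℤ) • inv ((s : ℤ) • 𝟙 G) = inv ((s : ℤ) • 𝟙 G) ≫ ((s : ℤ) • 𝟙 G) by
      rw [Preadditive.comp_zsmul, Category.comp_id], IsIso.inv_hom_id, Category.comp_id]
  let c : Cocone (diag S F) :=
    { pt := G
      ι :=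
        { app := fun s => φ ≫ inv ((s.val : ℤ) • 𝟙 G)
          naturality := fun {s t} a => by
            show ((a.down.1 : ℤ) • 𝟙 F) ≫ φ ≫ inv ((t.val : ℤ) • 𝟙 G) = (φ ≫ inv ((s.val : ℤ) • 𝟙 G)) ≫ 𝟙 _
            rw [Category.comp_id, Preadditive.zsmul_comp, Category.id_comp, ← cancel_mono ((t.val : ℤ) • 𝟙 G),
              Preadditive.zsmul_comp, Category.assoc, IsIso.inv_hom_id, Category.comp_id,
              Preadditive.comp_zsmul, Category.comp_id,
              show (t.val : ℤ) = (a.down.1 : ℤ) * (s.val : ℤ) by rw [← Submonoid.coe_mul, mul_comm, a.down.2],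
              mul_smul, hsmul] } }
  let δ : colimit (diag S F) ⟶ G := colimit.desc _ c
  haveI : IsIso δ := by
    refine isIso_of_bijective_affine _ fun U hU => ⟨?_, fun g => ?_⟩
    · refine (injective_iff_map_eq_zero (δ.hom.app (op U)).hom).2 fun x hx => ?_
      haveI := hU
      obtain ⟨j, t, rfl⟩ := Cons.sect_colim_surj (colimit.isColimit _) (U := U) x
      have h0 : (φ ≫ inv ((j.val : ℤ) • 𝟙 G)).hom.app (op U) t = 0 :=
        (ConcreteCategory.congr_hom (congrArg (fun f : (diag S F).obj j ⟶ G => f.hom.app (op U))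
          (colimit.ι_desc c j)) t).symm.trans hx
      have h1 : φ.hom.app (op U) t = φ.hom.app (op U) 0 := by
        conv_lhs => rw [← hsmul j.val]
        rw [zsmul_app, h0, smul_zero, map_zero]
      obtain ⟨d, hd⟩ := (hφ U hU).exists_of_eq h1
      let k : Den.{u} S := ⟨j.val * d⟩
      let f : j ⟶ k := ⟨⟨d, rfl⟩⟩
      have h2 : ((diag S F).map f).hom.app (op U) t = 0 := hd.trans (smul_zero _)
      refine (ConcreteCategory.congr_hom (congrArg (fun f : (diag S F).obj j ⟶ colimit (diag S F) =>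
        f.hom.app (op U)) (colimit.w (diag S F) f)) t).symm.trans ?_
      exact (congrArg ((colimit.ι (diag S F) k).hom.app (op U)).hom h2).trans (map_zero _)
    · obtain ⟨⟨m, d⟩, hm⟩ := (hφ U hU).surj g
      refine ⟨(colimit.ι (diag S F) (⟨d⟩ : Den.{u} S)).hom.app (op U) m, ?_⟩
      refine (ConcreteCategory.congr_hom (congrArg (fun f : F ⟶ G => f.hom.app (op U))
        (colimit.ι_desc c (⟨d⟩ : Den.{u} S))) m).trans ?_
      apply ((Module.End.isUnit_iff _).1 ((hφ U hU).map_units d)).1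
      show (d : ℤ) • (φ ≫ inv ((d : ℤ) • 𝟙 G)).hom.app (op U) m = (d : ℤ) • g
      rw [← zsmul_app, hsmul]
      exact hm.symm
  obtain ⟨hs, hi⟩ := CohColim.hSurj_hInj i (diag S F)
  have hbij : ∀ {A B : EtCoh.Ab X} (f : A ⟶ B) [IsIso f], Function.Bijective (Sheaf.H.map f i) :=
    fun f _ => (ConcreteCategory.isIso_iff_bijective ((EtCoh.HF X i).map f)).1 inferInstance
  have hι : ∀ (j : Den.{u} S) (z : EtCoh.H X F i),
      (j.val : ℤ) • Sheaf.H.map δ i (Sheaf.H.map (colimit.ι (diag S F) j) i z) = Sheaf.H.map φ i z := by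
    intro j z
    rw [← CohColim.H_map_comp]
    refine Eq.trans ?_ (congrArg (fun f : F ⟶ G => Sheaf.H.map f i z) (hsmul j.val))
    rw [map_zsmul_H]
    exact congrArg (fun f : F ⟶ G => (j.val : ℤ) • Sheaf.H.map f i z) (colimit.ι_desc c j)
  refine ⟨fun s => ?_, fun y => ?_, fun {a b} hab => ?_⟩
  · rw [Module.End.isUnit_iff]
    show Function.Bijective fun y : EtCoh.H X G i => (s : ℤ) • y
    convert hbij ((s : ℤ) • 𝟙 G) using 1
    funext y
    rw [map_zsmul_H]
    exact congrArg _ (ConcreteCategory.congr_hom ((EtCoh.HF X i).map_id G) y).symm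
  · obtain ⟨x, rfl⟩ := (hbij δ).2 y
    obtain ⟨j, z, rfl⟩ := hs x
    exact ⟨(z, j.val), hι j z⟩
  · let o : Den.{u} S := ⟨1⟩
    obtain ⟨k, f, hf⟩ := hi.eq_stage (i := o) a b ((hbij δ).1 (by
      have ha := hι o a
      have hb := hι o b
      rw [show ((o.val : S) : ℤ) = 1 from rfl, one_smul] at ha hb
      exact ha.trans (hab.trans hb.symm)))
    refine ⟨f.down.1, ?_⟩
    change Sheaf.H.map ((f.down.1 : ℤ) • 𝟙 F) i a = Sheaf.H.map ((f.down.1 : ℤ) • 𝟙 F) i b at hf
    rw [map_zsmul_H, map_zsmul_H] at hf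
    have hid : ∀ z : EtCoh.H X F i, Sheaf.H.map (𝟙 F) i z = z :=
      fun z => by rw [Sheaf.H.map_apply, Abelian.Ext.comp_mk₀_id]
    rw [hid a, hid b] at hf
    exact hf

end Groth.Agent.H15Site.HLoc
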